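import Mathlib
import Cfsg.Agent.Base
import Cfsg.Agent.Lib.BG.Api.Core
import Cfsg.Agent.Lib.BG.Api.Hall

/-!
# Supplements in a split extension by a nilpotent group

If `W` is nilpotent, normalizes `X`, meets it trivially, and `C_X(W)` has order prime to `|W|`,
then every supplement of `X` in `XW` contains a conjugate of `W`.
-/

set_option autoImplicit false
set_option linter.unusedSectionVars false

namespace H2.NF

open Subgroup H69 H45 Cfsg
open scoped commutatorElement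

universe u

/-- the hypotheses -/
structure Hy {G : Type*} [Group G] (X W : Subgroup G) : Prop where
  n : W ≤ 𝐍(X)
  i : X ⊓ W = ⊥
  nil : Group.IsNilpotent W
  c : (Nat.card (X ⊓ 𝐂(W) : Subgroup G)).Coprime (Nat.card W)

/-- the statement below the bound `n` -/
def LA (n : ℕ) : Prop := ∀ (G : Type u) [Group G] [Finite G] (X W M : Subgroup G),
  Nat.card X + Nat.card W < n → Hy X W → M ≤ 𝐍(X) → W ≤ X ⊔ M → ∃ x ∈ X, W ^ᶜ x ≤ M

variable {G : Type u} [Group G] [Finite G] {X W M N : Subgroup G}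

theorem Hy.sub (h : Hy X W) (h1 : N ≤ X) (h2 : W ≤ 𝐍(N)) : Hy N W where
  n := h2
  i := le_bot_iff.1 ((inf_le_inf_right W h1).trans h.i.le)
  nil := h.nil
  c := h.c.coprime_dvd_left (card_dvd_of_le (inf_le_inf_right _ h1))

theorem Hy.cj [X.Normal] (h : Hy X W) (g : G) : Hy X (W ^ᶜ g) where
  n := le_top.trans (normal_iff_top_le_normalizer.1 inferInstance)
  i := by rw [← cj_eq_of_normal X g, ← cj_inf, h.i, cj_bot]
  nil := nilpotent_cj h.nil g
  c := by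
    rw [← cj_eq_of_normal X g, ← cj_centralizer, ← cj_inf, card_cj, card_cj]
    exact h.c

theorem Hy.of_map {H : Type u} [Group H] {f : H →* G} (hf : Function.Injective f)
    {X W : Subgroup H} (h : Hy (X.map f) (W.map f)) : Hy X W where
  n := by
    have h1 := comap_mono (f := f) h.n
    rw [comap_map_eq_self_of_injective hf] at h1
    refine h1.trans ((le_normalizer_comap f).trans ?_)
    rw [comap_map_eq_self_of_injective hf]
  i := by
    have h1 := h.i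
    rw [← map_inf _ _ _ hf, map_eq_bot_iff_of_injective _ hf] at h1
    exact h1
  nil := by
    haveI := h.nil
    exact Group.nilpotent_of_mulEquiv (W.equivMapOfInjective f hf).symm
  c := by
    have h1 := h.c
    rw [card_map_of_injective hf] at h1
    refine h1.coprime_dvd_left ?_
    rw [← card_map_of_injective hf]
    refine card_dvd_of_le ?_
    rintro _ ⟨x, hx, rfl⟩
    refine ⟨mem_map_of_mem f hx.1, mem_centralizer_iff_commute.2 ?_⟩
    rintro _ ⟨w, hw, rfl⟩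
    rw [← map_mul, ← map_mul, mem_centralizer_iff_commute.1 hx.2 w hw]

theorem top_norm (X : Subgroup G) [X.Normal] (H : Subgroup G) : H ≤ 𝐍(X) :=
  le_top.trans (normal_iff_top_le_normalizer.1 inferInstance)

theorem norm_cent [X.Normal] (h : X ⊓ W = ⊥) : X ⊓ 𝐍(W) ≤ 𝐂(W) :=
  le_centralizer_of_commutator_eq_bot (le_bot_iff.1 (le_trans (le_inf
    ((commutator_mono inf_le_left le_rfl).trans
      (commutator_le_left_of_le_normalizer (top_norm X W)))
    (commutator_le_right_of_le_normalizer inf_le_right)) h.le))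

theorem card_lt (h1 : N ≤ X) (h2 : N ≠ X) : Nat.card N < Nat.card X :=
  lt_of_le_of_ne (card_le_of_le h1) (fun e => h2 (eq_of_le_of_card_ge h1 e.ge))

theorem fr {n : ℕ} (IH : LA.{u} n) (hn : Nat.card N + Nat.card W < n) (h : Hy N W) {g : G}
    (h1 : W ^ᶜ g ≤ 𝐍(N)) (h2 : W ≤ N ⊔ W ^ᶜ g) : ∃ x ∈ N, x⁻¹ * g ∈ 𝐍(W) := by
  obtain ⟨x, hx, e⟩ := IH G N W _ hn h h1 h2
  rw [le_cj_iff, cj_cj] at e
  refine ⟨x, hx, ?_⟩
  simpa using inv_mem (mem_normalizer_of_cj_le e)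

section whole

variable [X.Normal] (IH : LA.{u} (Nat.card X + Nat.card W)) (h : Hy X W)
include IH h

theorem loc {H : Subgroup G} {g : G} (h1 : W ^ᶜ g ≤ H) (h2 : ¬ X ≤ H) (h3 : M ≤ H)
    (h4 : X ⊔ M = ⊤) : ∃ g, W ^ᶜ g ≤ M := by
  have hn : H ≤ 𝐍(X ⊓ H) := le_normalizer_inf (top_norm X H) le_normalizer
  obtain ⟨x, -, e⟩ := IH G (X ⊓ H) (W ^ᶜ g) M (by
      rw [card_cj]
      exact Nat.add_lt_add_right (card_lt inf_le_left (fun e => h2 (inf_eq_left.1 e))) _)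
    ((h.cj g).sub inf_le_left (h1.trans hn)) (h3.trans hn) (by
      rw [sup_comm, ← dedekind_right (top_norm X M) h3, sup_comm, h4, top_inf_eq]
      exact h1)
  exact ⟨_, by rwa [cj_cj] at e⟩

theorem stepB [N.Normal] (h0 : N ≠ ⊥) (h1 : N ≤ X) (h2 : N ≠ X) (h4 : X ⊔ M = ⊤) :
    ∃ g, W ^ᶜ g ≤ M := by
  have hlt := Nat.add_lt_add_right (card_lt h1 h2) (Nat.card W)
  set f := QuotientGroup.mk' N with hf
  have hs : Function.Surjective f := QuotientGroup.mk'_surjective N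
  have hk : ∀ x, f x = 1 ↔ x ∈ N := fun x => QuotientGroup.eq_one_iff x
  haveI : (X.map f).Normal := Normal.map inferInstance f hs
  have hy : Hy (X.map f) (W.map f) := by
    refine ⟨top_norm _ _, ?_, ?_, ?_⟩
    · rw [eq_bot_iff]
      rintro _ ⟨⟨x, hx, rfl⟩, w, hw, e⟩
      have h5 : w * x⁻¹ ∈ N := (hk _).1 (by rw [map_mul, map_inv, e, mul_inv_cancel])
      have h6 : w ∈ X ⊓ W := ⟨by simpa using mul_mem (h1 h5) hx, hw⟩
      rw [h.i, mem_bot] at h6
      rw [← e, h6, map_one]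
      exact one_mem _
    · haveI := h.nil
      exact Group.nilpotent_of_surjective _ (f.subgroupMap_surjective W)
    · refine (h.c.coprime_dvd_right (card_map_dvd W f)).coprime_dvd_left
        ((card_dvd_of_le ?_).trans (card_map_dvd (X ⊓ 𝐂(W)) f))
      rintro _ ⟨⟨x, hx, rfl⟩, hc⟩
      obtain ⟨y, hy, e⟩ := fr (g := x) IH hlt (h.sub h1 (top_norm N W)) (top_norm N _) (by
        intro w hw
        have h5 : w * (x * w * x⁻¹)⁻¹ ∈ N := (hk _).1 (by
          have := conj_eq_of_mem_centralizer hc (mem_map_of_mem f hw)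
          rw [map_mul, map_inv, map_mul, map_mul, map_inv, this, mul_inv_cancel])
        have h7 := mul_mem_sup h5 (cj_mem x hw)
        rwa [inv_mul_cancel_right] at h7)
      have h6 : y⁻¹ * x ∈ X := mul_mem (inv_mem (h1 hy)) hx
      refine ⟨y⁻¹ * x, ⟨h6, norm_cent h.i ⟨h6, e⟩⟩, ?_⟩
      rw [map_mul, map_inv, (hk y).2 hy, inv_one, one_mul]
  obtain ⟨_, ⟨x, -, rfl⟩, e⟩ := IH (G ⧸ N) (X.map f) (W.map f) (M.map f) (by
      refine Nat.add_lt_add_of_lt_of_le ?_ (Nat.le_of_dvd Nat.card_pos (card_map_dvd W f))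
      refine lt_of_le_of_ne (Nat.le_of_dvd Nat.card_pos (card_map_dvd X f)) (fun e => h0 ?_)
      have h5 : Function.Injective (f.subgroupMap X) :=
        ((f.subgroupMap_surjective X).bijective_of_nat_card_le e.ge).1
      rw [eq_bot_iff]
      intro y hy
      have h6 := h5 (a₁ := ⟨y, h1 hy⟩) (a₂ := 1) (Subtype.ext (by
        change f y = f 1
        rw [(hk y).2 hy, map_one]))
      exact mem_bot.2 (congrArg Subtype.val h6)) hy (top_norm _ _) (by
      rw [← Subgroup.map_sup, h4]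
      exact map_mono le_top)
  rw [← map_cj, map_le_iff_le_comap, comap_map_eq, hf, QuotientGroup.ker_mk', sup_comm] at e
  obtain ⟨y, -, e'⟩ := IH G N (W ^ᶜ x) M (by rwa [card_cj]) ((h.cj x).sub h1 (top_norm _ _))
    (top_norm _ _) e
  exact ⟨_, by rwa [cj_cj] at e'⟩

end whole

section prime

variable [X.Normal] {r : ℕ} [hr : Fact r.Prime] {H Y : Subgroup G}

theorem sylK (hW : Group.IsNilpotent W) (ht : X ⊔ W = ⊤) :
    Syl r ((O[{r}] W).map (QuotientGroup.mk' X)) ⊤ ∧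
      (O[{r}] W).map (QuotientGroup.mk' X) ⊴ ⊤ := by
  have e : W.map (QuotientGroup.mk' X) = ⊤ := by
    have := congrArg (Subgroup.map (QuotientGroup.mk' X)) ht
    rwa [Subgroup.map_sup, QuotientGroup.map_mk'_self, bot_sup_eq,
      map_top_of_surjective _ (QuotientGroup.mk'_surjective X)] at this
  rw [← e]
  exact ⟨(nilpotent_pcore_Syl r hW).map _, (pcore_normal _ W).map _⟩

theorem leK (hW : Group.IsNilpotent W) (ht : X ⊔ W = ⊤) (hY : IsPGroup r Y) :
    Y ≤ X ⊔ O[{r}] W := by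
  obtain ⟨h1, h2⟩ := sylK (r := r) hW ht
  have h3 := Syl.le_of_normal_syl h1 h2 le_top (hY.map (QuotientGroup.mk' X))
  rwa [map_le_iff_le_comap, comap_map_eq, QuotientGroup.ker_mk', sup_comm] at h3

theorem cov (hW : Group.IsNilpotent W) (ht : X ⊔ W = ⊤) (hY : Syl r Y H) (hH : X ⊔ H = ⊤) :
    X ⊔ Y = X ⊔ O[{r}] W := by
  obtain ⟨h1, h2⟩ := sylK (r := r) hW ht
  have e : H.map (QuotientGroup.mk' X) = ⊤ := by
    have := congrArg (Subgroup.map (QuotientGroup.mk' X)) hH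
    rwa [Subgroup.map_sup, QuotientGroup.map_mk'_self, bot_sup_eq,
      map_top_of_surjective _ (QuotientGroup.mk'_surjective X)] at this
  have h3 := hY.map (QuotientGroup.mk' X)
  rw [e] at h3
  have h4 := congrArg (comap (QuotientGroup.mk' X)) (Syl.eq_of_normal h1 h2 h3)
  rwa [comap_map_eq, comap_map_eq, QuotientGroup.ker_mk', sup_comm, sup_comm _ X] at h4

theorem normK (ht : X ⊔ W = ⊤) (π : Set ℕ) (H : Subgroup G) : H ≤ 𝐍(X ⊔ O[π] W) := by
  refine le_top.trans (ht.ge.trans (sup_le (le_normalizer_of_le le_sup_left) ?_))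
  exact le_normalizer_sup (top_norm _ _) (pcore_norm π W)

theorem frat (hW : Group.IsNilpotent W) (ht : X ⊔ W = ⊤) (hY : Syl r Y H) (hH : X ⊔ H = ⊤) :
    X ⊔ (H ⊓ 𝐍(Y)) = ⊤ := by
  have h1 : Syl r Y (H ⊓ (X ⊔ O[{r}] W)) := hY.mono (le_inf hY.le (leK hW ht hY.isP)) inf_le_left
  have h2 := h1.frattini_sup inf_le_left (le_normalizer_inf le_normalizer (normK ht _ H))
  rw [eq_top_iff, ← hH]
  refine sup_le le_sup_left (h2.ge.trans (sup_le (inf_le_right.trans ?_) le_sup_right))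
  rw [← cov hW ht hY hH]
  exact sup_le_sup_left (le_inf hY.le le_normalizer) _

theorem cW (hW : Group.IsNilpotent W) (r : ℕ) : O[{r}] W ⊔ O[{r}ᶜ] W = W :=
  le_antisymm (sup_le (pcore_sub _ _) (pcore_sub _ _)) (fun a ha => by
    obtain ⟨x, hx, y, hy, rfl⟩ := nilpotent_exists_mul {r} hW ha
    exact mul_mem_sup hx hy)

theorem q0 (h : Hy X W) (hd : r ∣ Nat.card W) {Q : Subgroup G} (hQ : IsPGroup r Q)
    (h1 : Q ≤ X) (h2 : Q ≤ 𝐂(O[{r}ᶜ] W)) (h3 : O[{r}] W ≤ 𝐍(Q)) : Q = ⊥ := by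
  by_contra h0
  have h4 := inf_centralizer_ne_bot hQ (pcore_isPGroup r W) h3 h0
  have h5 : Q ⊓ 𝐂(O[{r}] W) ≤ X ⊓ 𝐂(W) := by
    refine le_inf (inf_le_left.trans h1) ?_
    conv_rhs => rw [← cW h.nil r, centralizer_sup]
    exact le_inf inf_le_right (inf_le_left.trans h2)
  have h6 := (dvd_card_of_ne_bot (hQ.to_le inf_le_left) h4).trans (card_dvd_of_le h5)
  exact hr.out.one_lt.ne' (Nat.eq_one_of_dvd_coprimes h.c h6 hd)

theorem eq_of_cov {S : Subgroup G} (h1 : Y ≤ S) (h2 : S ≤ X ⊔ Y) (h3 : X ⊓ S = ⊥) : S = Y := by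
  have := dedekind_right (B := X) (top_norm X Y) h1
  rwa [h3, sup_bot_eq, sup_comm, inf_eq_right.2 h2] at this

theorem hyB (h : Hy X W) (π : Set ℕ)
    (hc : (Nat.card (X ⊓ 𝐂(O[π] W) : Subgroup G)).Coprime (Nat.card (O[π] W))) :
    Hy X (O[π] W) :=
  ⟨top_norm _ _, le_bot_iff.1 ((inf_le_inf_left X (pcore_sub π W)).trans h.i.le),
    nilpotentS (pcore_sub π W) h.nil, hc⟩

variable (IH : LA.{u} (Nat.card X + Nat.card W)) (h : Hy X W) (ht : X ⊔ W = ⊤)
  (hd : r ∣ Nat.card W)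
include IH h ht hd

theorem stepA (hB : Hy X (O[{r}ᶜ] W)) (h4 : X ⊔ M = ⊤) : ∃ g, W ^ᶜ g ≤ M := by
  set B := O[{r}ᶜ] W with hBd
  have hlt : Nat.card B < Nat.card W := card_lt (pcore_sub _ _) (fun e => by
    have h1 := pcore_coprime r W
    rw [← hBd, e] at h1
    exact hr.out.one_lt.ne' (Nat.eq_one_of_dvd_coprimes h1 hd dvd_rfl))
  have key : ∀ M : Subgroup G, X ⊔ M = ⊤ → B ≤ M → ∃ g, W ^ᶜ g ≤ M := by
    intro M h4 h5
    have hn : M ≤ 𝐍(X ⊓ M) := le_normalizer_inf (top_norm X M) le_normalizer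
    have h6 : X ⊔ (M ⊓ 𝐍(B)) = ⊤ := by
      rw [eq_top_iff, ← h4]
      refine sup_le le_sup_left (fun m hm => ?_)
      have h7 : B ^ᶜ m ≤ M := cj_le_of_mem h5 hm
      obtain ⟨x, hx, e⟩ := fr (g := m) IH
        (Nat.add_lt_add_of_le_of_lt (card_le_of_le inf_le_left) hlt)
        (hB.sub (N := X ⊓ M) inf_le_left (h5.trans hn)) (h7.trans hn) (by
          rw [sup_comm, ← dedekind_right (top_norm X _) h7, sup_comm]
          refine le_inf ?_ h5
          rw [← cj_eq_of_normal X m, ← cj_sup, cj_eq_of_mem_normalizer (normK ht _ ⊤ (mem_top m))]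
          exact le_sup_right)
      simpa using mul_mem_sup hx.1
        (show x⁻¹ * m ∈ M ⊓ 𝐍(B) from ⟨M.mul_mem (M.inv_mem hx.2) hm, e⟩)
    obtain ⟨Y, hY⟩ := exists_isSylowIn r (M ⊓ 𝐍(B))
    obtain ⟨S, hS, hYS⟩ := exists_isSylowIn_le hY.isP (hY.le.trans inf_le_right)
    obtain ⟨c, hc, e⟩ := hS.exists_le_cj (pcore_isPGroup r W)
      (le_normalizer_of_le_centralizer (cent_pcoreC {r} W))
    have hS' := hS.cj_of_mem hc
    have h8 : X ⊓ S ^ᶜ c = ⊥ := q0 h hd (hS'.isP.to_le inf_le_right) inf_le_left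
      ((inf_le_inf_left X hS'.le).trans (norm_cent hB.i))
      (le_normalizer_inf (top_norm _ _) (le_normalizer_of_le e))
    rw [← cj_eq_of_normal X c, ← cj_inf, cj_eq_bot_iff] at h8
    have h9 : S = Y := eq_of_cov hYS ((leK h.nil ht hS.isP).trans (cov h.nil ht hY h6).ge) h8
    refine ⟨c⁻¹, le_cj_iff.1 ?_⟩
    rw [← cW h.nil r]
    refine sup_le (e.trans (cj_mono c (h9.le.trans (hY.le.trans inf_le_left)))) ?_
    rw [← hBd, ← cj_eq_of_mem_normalizer hc]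
    exact cj_mono c h5
  obtain ⟨x, -, e⟩ := IH G X B M (Nat.add_lt_add_left hlt _) hB (top_norm _ _)
    (le_top.trans h4.ge)
  obtain ⟨g, e'⟩ := key (M ^ᶜ x⁻¹) (by
    rw [← cj_eq_of_normal X x⁻¹, ← cj_sup, h4, cj_top]) (cj_le_iff.1 e)
  refine ⟨x * g, ?_⟩
  rw [← cj_cj, cj_le_iff]
  exact e'

theorem stepC (hY : IsPGroup r Y) [Y.Normal] (h1 : X ⊔ Y = X ⊔ O[{r}] W) (h4 : X ⊔ M = ⊤) :
    ∃ g, W ^ᶜ g ≤ M := by
  by_cases h0 : X ⊓ Y = ⊥
  · have h2 : Y ≤ 𝐂(X) := le_centralizer_of_norm_of_inf_eq_bot (top_norm _ _) (top_norm _ _)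
      (by rw [inf_comm, h0])
    have h3 : Y ≤ 𝐂(O[{r}ᶜ] W) := by
      refine le_centralizer_of_commutator_eq_bot (le_bot_iff.1 (le_trans (le_inf ?_
        (commutator_le_left_of_le_normalizer (top_norm _ _))) h0.le))
      refine (commutator_mono (le_sup_right.trans h1.le) le_rfl).trans ?_
      refine commutator_sup_le_left (top_norm _ _) (top_norm _ _)
        (commutator_le_left_of_le_normalizer (top_norm _ _)) ?_
      rw [commutator_eq_bot_of_le_centralizer (cent_pcoreC {r} W)]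
      exact bot_le
    have h5 : IsPGroup r (Y ⊔ O[{r}] W : Subgroup G) :=
      isPGroup_sup_of_le_normalizer_left hY (pcore_isPGroup r W) (top_norm _ _)
    have h6 : Y ⊔ O[{r}] W = Y := eq_of_cov le_sup_left ((leK h.nil ht h5).trans h1.ge)
      (q0 h hd (h5.to_le inf_le_right) inf_le_left
        (inf_le_right.trans (sup_le h3 (cent_pcoreC {r} W)))
        (le_normalizer_inf (top_norm _ _) (le_normalizer_of_le le_sup_right)))
    refine stepA IH h ht hd (hyB h _ ?_) h4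
    refine (h.c.coprime_dvd_right (card_dvd_of_le (pcore_sub _ _))).coprime_dvd_left
      (card_dvd_of_le (le_inf inf_le_left ?_))
    conv_rhs => rw [← cW h.nil r, centralizer_sup]
    exact le_inf (inf_le_left.trans (centsC.1 ((le_sup_right.trans h6.le).trans h2))) inf_le_right
  by_cases h2 : X ⊓ Y = X
  · refine stepA IH h ht hd (hyB h _ ?_) h4
    rw [q0 (Q := X ⊓ 𝐂(O[{r}ᶜ] W)) h hd (hY.to_le (inf_le_left.trans (inf_eq_left.1 h2)))
      inf_le_left inf_le_right (le_normalizer_inf (top_norm _ _)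
        (le_normalizer_centralizer ((pcore_sub _ _).trans (pcore_norm _ _)))), card_bot]
    exact Nat.coprime_one_left _
  · exact stepB IH h h0 inf_le_left h2 h4

theorem stepD (h4 : X ⊔ M = ⊤) : ∃ g, W ^ᶜ g ≤ M := by
  by_cases hne : ∃ Y : Subgroup G, IsPGroup r Y ∧ X ⊔ Y = X ⊔ O[{r}] W ∧ X ⊔ 𝐍(Y) = ⊤ ∧ X ≤ 𝐍(Y)
  · obtain ⟨Y, h1, h2, h3, h5⟩ := hne
    haveI : Y.Normal := normal_iff_top_le_normalizer.2 (h3.ge.trans (sup_le h5 le_rfl))
    exact stepC IH h ht hd h1 h2 h4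
  have hne' : ∀ Y : Subgroup G, IsPGroup r Y → X ⊔ Y = X ⊔ O[{r}] W → X ⊔ 𝐍(Y) = ⊤ →
      ¬ X ≤ 𝐍(Y) := fun Y h1 h2 h3 h5 => hne ⟨Y, h1, h2, h3, h5⟩
  have key : ∀ Y : Subgroup G, IsPGroup r Y → X ⊔ Y = X ⊔ O[{r}] W → X ⊔ 𝐍(Y) = ⊤ →
      ∃ S, Syl r S ⊤ ∧ ((∃ g, W ^ᶜ g ≤ 𝐍(Y)) ↔ ∃ g, W ^ᶜ g ≤ 𝐍(S)) := by
    intro Y
    induction Y using WellFoundedGT.induction with
    | ind Y ih =>
    intro h1 h2 h3
    obtain ⟨T, hT, hYT⟩ := exists_isSylowIn_le h1 (le_normalizer (H := Y))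
    by_cases e : Y = T
    · exact ⟨Y, isSylowIn_of_normalizer le_top (by rw [top_inf_eq]; exact e ▸ hT), Iff.rfl⟩
    have h5 := frat h.nil ht hT h3
    have h6 := cov h.nil ht hT h3
    have h7 : X ⊔ 𝐍(T) = ⊤ := top_le_iff.1 (h5.ge.trans (sup_le_sup_left inf_le_right _))
    obtain ⟨S, hS, e'⟩ := ih T (lt_of_le_of_ne hYT e) hT.isP h6 h7
    refine ⟨S, hS, Iff.trans ⟨?_, ?_⟩ e'⟩
    · rintro ⟨g, hg⟩
      obtain ⟨g', hg'⟩ := loc IH h hg (hne' Y h1 h2 h3) inf_le_left h5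
      exact ⟨g', hg'.trans inf_le_right⟩
    · rintro ⟨g, hg⟩
      obtain ⟨g', hg'⟩ := loc IH h hg (hne' T hT.isP h6 h7) inf_le_right h5
      exact ⟨g', hg'.trans inf_le_left⟩
  obtain ⟨Y, hY⟩ := exists_isSylowIn r M
  have h5 := frat h.nil ht hY h4
  have h6 := cov h.nil ht hY h4
  have h7 : X ⊔ 𝐍(Y) = ⊤ := top_le_iff.1 (h5.ge.trans (sup_le_sup_left inf_le_right _))
  obtain ⟨S, hS, e⟩ := key Y hY.isP h6 h7
  obtain ⟨S', hS', e'⟩ := key _ (pcore_isPGroup r W) rfl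
    (top_le_iff.1 (ht.ge.trans (sup_le_sup_left (pcore_norm _ _) _)))
  obtain ⟨g, hg⟩ := e'.1 ⟨1, by rw [cj_one]; exact pcore_norm _ _⟩
  obtain ⟨k, -, rfl⟩ := hS'.conj hS
  obtain ⟨g', hg'⟩ := e.2 ⟨k * g, by rw [← cj_cj, ← cj_normalizer]; exact cj_mono k hg⟩
  obtain ⟨g'', hg''⟩ := loc IH h hg' (hne' Y hY.isP h6 h7) inf_le_right h5
  exact ⟨g'', hg''.trans inf_le_left⟩

end prime

theorem whole [X.Normal] (IH : LA.{u} (Nat.card X + Nat.card W)) (h : Hy X W) (ht : X ⊔ W = ⊤)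
    (h4 : X ⊔ M = ⊤) : ∃ g, W ^ᶜ g ≤ M := by
  by_cases h0 : Nat.card W = 1
  · exact ⟨1, by rw [cj_one, card_eq_one.1 h0]; exact bot_le⟩
  obtain ⟨r, hr, hd⟩ := Nat.exists_prime_and_dvd h0
  haveI := Fact.mk hr
  exact stepD IH h ht hd h4

theorem la (n : ℕ) : LA.{u} n := by
  induction n using Nat.strong_induction_on with
  | _ n ih =>
  intro G _ _ X W M hn h h1 h2
  set Γ := X ⊔ W with hΓ
  have eX : (X.subgroupOf Γ).map Γ.subtype = X := map_subgroupOf_eq_of_le le_sup_left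
  have eW : (W.subgroupOf Γ).map Γ.subtype = W := map_subgroupOf_eq_of_le le_sup_right
  haveI : (X.subgroupOf Γ).Normal := (normalIn_sup_left h.n).normal_subgroupOf
  obtain ⟨g, e⟩ := whole (X := X.subgroupOf Γ) (W := W.subgroupOf Γ) (M := M.subgroupOf Γ)
    (ih _ (by rwa [H69.card_subgroupOf le_sup_left, H69.card_subgroupOf le_sup_right]))
    (Hy.of_map Γ.subtype_injective (by rwa [eX, eW]))
    (by rw [← map_subtype_eq_self_iff, Subgroup.map_sup, eX, eW])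
    (by
      rw [← map_subtype_eq_self_iff, Subgroup.map_sup, eX, subgroupOf_map_subtype,
        ← dedekind_left h1 le_sup_left, inf_eq_right]
      exact sup_le le_sup_left h2)
  have e' := map_mono (f := Γ.subtype) e
  rw [map_subtype_cj, eW, subgroupOf_map_subtype] at e'
  obtain ⟨x, hx, w, hw, e2⟩ := (mem_sup_of_le_normalizer_left h.n).1 g.2
  rw [e2, ← cj_cj, cj_eq_of_mem hw] at e'
  exact ⟨x, hx, e'.trans inf_le_left⟩

/-- Theorem L -/
theorem thmL (h : Hy X W) (h1 : M ≤ 𝐍(X)) (h2 : W ≤ X ⊔ M) : ∃ x ∈ X, W ^ᶜ x ≤ M :=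
  la _ G X W M (Nat.lt_succ_self _) h h1 h2

end H2.NF
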