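import Mathlib
import Cfsg.Agent.Base
import Cfsg.Agent.Lib.NilF.L

/-! Nilpotent operator groups without fixed points. -/

set_option autoImplicit false
set_option linter.unusedSectionVars false

namespace H2.NF

open Subgroup H69 H45 Cfsg SemidirectProduct
open scoped Pointwise

variable {A G : Type*} [Group A] [Finite A] [Group G] [Finite G] (φ : A →* MulAut G)
  (hA : Group.IsNilpotent A) (hf : ∀ g : G, (∀ a, φ a g = g) → g = 1)
include hA hf

theorem act (C : Subgroup G) (hC : ∀ a, ∀ x ∈ C, φ a x ∈ C) (M : Subgroup (G ⋊[φ] A))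
    (hM : C.map inl ⊔ inr.range ≤ 𝐍(C.map (inl : G →* G ⋊[φ] A)) → M ≤ 𝐍(C.map inl))
    (h : ∀ a, ∃ c ∈ C, inl c * inr a ∈ M) :
    ∃ x ∈ C, ∀ a, inl x * inr a * (inl x)⁻¹ ∈ M := by
  haveI : Finite (G ⋊[φ] A) := Finite.of_equiv _ SemidirectProduct.equivProd.symm
  have hn : (inr : A →* G ⋊[φ] A).range ≤ 𝐍(C.map (inl : G →* G ⋊[φ] A)) := by
    refine le_normalizer_of_cj_le ?_
    rintro _ ⟨a, rfl⟩ _ ⟨_, ⟨c, hc, rfl⟩, rfl⟩
    exact ⟨φ a c, hC a c hc, by rw [inl_aut, map_inv]; rfl⟩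
  have hy : Hy (C.map (inl : G →* G ⋊[φ] A)) (inr : A →* G ⋊[φ] A).range := by
    refine ⟨hn, ?_, ?_, ?_⟩
    · rw [eq_bot_iff]
      rintro _ ⟨⟨c, -, rfl⟩, a, e⟩
      have h1 : c = 1 := (congrArg SemidirectProduct.left e).symm
      rw [h1, map_one]
      exact one_mem _
    · exact Group.nilpotent_of_surjective _ (inr : A →* G ⋊[φ] A).rangeRestrict_surjective
    · have : C.map (inl : G →* G ⋊[φ] A) ⊓ 𝐂((inr : A →* G ⋊[φ] A).range) = ⊥ := by
        rw [eq_bot_iff]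
        rintro _ ⟨⟨c, -, rfl⟩, e⟩
        rw [hf c (fun a => inl_injective (φ := φ) (by
          rw [inl_aut, mem_centralizer_iff_commute.1 e _ ⟨a, rfl⟩, map_inv,
            mul_inv_cancel_right])), map_one]
        exact one_mem _
      rw [this, card_bot]
      exact Nat.coprime_one_left _
  obtain ⟨_, ⟨x, hx, rfl⟩, e⟩ := thmL hy (hM (sup_le le_normalizer hn)) (by
    rintro _ ⟨a, rfl⟩
    obtain ⟨c, hc, e⟩ := h a
    have := mul_mem_sup (inv_mem (mem_map_of_mem inl hc)) e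
    rwa [inv_mul_cancel_left] at this)
  exact ⟨x, hx, fun a => e (cj_mem _ ⟨a, rfl⟩)⟩

/-- no fixed cosets -/
theorem fx (C : Subgroup G) (hC : ∀ a, ∀ x ∈ C, φ a x ∈ C) {g : G}
    (hg : ∀ a, g⁻¹ * φ a g ∈ C) : g ∈ C := by
  have e0 : ∀ (g : G) (a : A), (inl g * inr a * (inl g)⁻¹ : G ⋊[φ] A) =
      inl (g * φ a g⁻¹) * inr a := fun g a => by
    rw [map_mul, inl_aut, map_inv, map_inv]; group
  obtain ⟨x, hx, e⟩ := act φ hA hf C hC ((inr : A →* G ⋊[φ] A).range ^ᶜ inl g⁻¹) (fun hn => by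
      refine le_trans ?_ hn
      rintro _ ⟨_, ⟨a, rfl⟩, rfl⟩
      change inl g⁻¹ * inr a * (inl g⁻¹)⁻¹ ∈ _
      rw [e0, inv_inv]
      exact mul_mem_sup (mem_map_of_mem _ (hg a)) ⟨a, rfl⟩)
    (fun a => ⟨_, hg a, by
      have := cj_mem (inl g⁻¹) (show inr a ∈ (inr : A →* G ⋊[φ] A).range from ⟨a, rfl⟩)
      rwa [e0, inv_inv] at this⟩)
  have h1 : (g * x)⁻¹ = 1 := hf _ (fun a => by
    obtain ⟨b, hb⟩ := mem_cj.1 (e a)
    have h2 : (inr b : G ⋊[φ] A) = inl (g * x) * inr a * (inl (g * x))⁻¹ := by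
      rw [hb, map_inv, map_mul]; group
    rw [e0] at h2
    have h3 := congrArg SemidirectProduct.left h2
    simp only [left_inr, mul_left, left_inl, right_inl, map_one, mul_one] at h3
    exact (eq_inv_of_mul_eq_one_right h3.symm))
  rw [inv_eq_one, mul_eq_one_iff_eq_inv] at h1
  rw [h1]
  exact inv_mem hx

theorem stab (M : Subgroup (MulAut G)) (h : ∀ a, ∃ g, MulAut.conj g * φ a ∈ M) :
    ∃ x, ∀ a, MulAut.conj x * φ a * (MulAut.conj x)⁻¹ ∈ M := by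
  let ψ : G ⋊[φ] A →* MulAut G := SemidirectProduct.lift MulAut.conj φ (fun a => by
    ext g y
    simp)
  obtain ⟨x, -, e⟩ := act φ hA hf ⊤ (fun _ _ _ => mem_top _) (M.comap ψ) (fun _ => by
      rw [← MonoidHom.range_eq_map, range_inl_eq_ker_rightHom]
      exact le_normalizer_of_normal)
    (fun a => by
      obtain ⟨g, hg⟩ := h a
      exact ⟨g, mem_top _, by simpa [ψ] using hg⟩)
  exact ⟨x, fun a => by simpa [ψ] using e a⟩

/-- an invariant class of pairs of subgroups has an invariant member -/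
theorem exists_inv (L K : Subgroup G)
    (h : ∀ a, ∃ g : G, L.map (φ a).toMonoidHom = L ^ᶜ g ∧ K.map (φ a).toMonoidHom = K ^ᶜ g) :
    ∃ x : G, (∀ a, ∀ y ∈ L ^ᶜ x, φ a y ∈ L ^ᶜ x) ∧ ∀ a, ∀ y ∈ K ^ᶜ x, φ a y ∈ K ^ᶜ x := by
  have e1 : ∀ (L : Subgroup G) (a : A) (g : G), L.map (φ a).toMonoidHom = L ^ᶜ g →
      MulAut.conj g⁻¹ * φ a ∈ MulAction.stabilizer (MulAut G) L := fun L a g e => by
    rw [MulAction.mem_stabilizer_iff, mul_smul, map_inv, inv_smul_eq_iff]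
    exact e
  have e2 : ∀ (L : Subgroup G) (x : G), (∀ a, MulAut.conj x * φ a * (MulAut.conj x)⁻¹ ∈
      MulAction.stabilizer (MulAut G) L) → ∀ a, ∀ y ∈ L ^ᶜ x⁻¹, φ a y ∈ L ^ᶜ x⁻¹ :=
    fun L x e a y hy => by
    have h1 := e a
    rw [MulAction.mem_stabilizer_iff, mul_smul, mul_smul, ← eq_inv_smul_iff, ← map_inv,
      smul_eq_cj] at h1
    rw [← h1]
    exact smul_mem_pointwise_smul _ _ _ hy
  obtain ⟨x, e⟩ := stab φ hA hf
    (MulAction.stabilizer (MulAut G) L ⊓ MulAction.stabilizer (MulAut G) K) (fun a => by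
      obtain ⟨g, h1, h2⟩ := h a
      exact ⟨g⁻¹, e1 L a g h1, e1 K a g h2⟩)
  exact ⟨x⁻¹, e2 L x (fun a => (e a).1), e2 K x (fun a => (e a).2)⟩

/-- no invariant class of pairs of index two -/
theorem ns (L K : Subgroup G) (h2 : L.relIndex K = 2) :
    ¬ ∀ a, ∃ g : G, L.map (φ a).toMonoidHom = L ^ᶜ g ∧ K.map (φ a).toMonoidHom = K ^ᶜ g := by
  intro h
  obtain ⟨x, hL, hK⟩ := exists_inv φ hA hf L K h
  have h3 : ((L ^ᶜ x).subgroupOf (K ^ᶜ x)).index = 2 :=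
    (relIndex_map_map_of_injective L K (MulAut.conj x).injective).trans h2
  obtain ⟨t, ht⟩ : ∃ t, t ∉ (L ^ᶜ x).subgroupOf (K ^ᶜ x) := by
    by_contra hh
    push Not at hh
    rw [(eq_top_iff' _).2 hh, index_top] at h3
    omega
  refine ht (fx φ hA hf _ hL (fun a => ?_))
  refine (mul_mem_iff_of_index_two h3 (a := t⁻¹) (b := ⟨φ a t, hK a _ t.2⟩)).2
    (iff_of_false (fun e => ht (inv_mem_iff.1 e)) (fun e => ht ?_))
  have : φ a⁻¹ (φ a t) ∈ L ^ᶜ x := hL a⁻¹ _ e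
  rwa [map_inv, MulAut.inv_apply_self] at this

theorem exists_sylow (p : ℕ) [Fact p.Prime] :
    ∃ P : Sylow p G, ∀ a, ∀ y ∈ (P : Subgroup G), φ a y ∈ (P : Subgroup G) := by
  obtain ⟨P⟩ : Nonempty (Sylow p G) := inferInstance
  obtain ⟨x, h, -⟩ := exists_inv φ hA hf P P (fun a => by
    obtain ⟨g, hg⟩ := MulAction.exists_smul_eq G P (φ a • P)
    have := congrArg (fun Q : Sylow p G => (Q : Subgroup G)) hg
    exact ⟨g, this.symm, this.symm⟩)
  exact ⟨x • P, h⟩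

theorem sylow_unique {p : ℕ} [Fact p.Prime] {P Q : Sylow p G}
    (hP : ∀ a, ∀ y ∈ (P : Subgroup G), φ a y ∈ (P : Subgroup G))
    (hQ : ∀ a, ∀ y ∈ (Q : Subgroup G), φ a y ∈ (Q : Subgroup G)) : Q = P := by
  obtain ⟨g, rfl⟩ := MulAction.exists_smul_eq G P Q
  refine Sylow.smul_eq_iff_mem_normalizer.2 (fx φ hA hf _ (fun a y hy => ?_) (fun a => ?_))
  · refine mem_normalizer_of_cj_le (A := (P : Subgroup G)) ?_
    rintro _ ⟨z, hz, rfl⟩
    have := hP a _ (conj_mem_of_mem_normalizer hy (hP a⁻¹ z hz))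
    rw [map_inv] at this
    simpa using this
  · refine mem_normalizer_of_cj_le (A := (P : Subgroup G)) ?_
    rintro _ ⟨z, hz, rfl⟩
    have := mem_cj.1 (hQ a _ (cj_mem g (hP a⁻¹ z hz)))
    rw [map_inv] at this
    simpa [mul_assoc] using this

end H2.NF
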